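import Cfsg.Agent.R2.T2.N6K.Tri

/-!
# S5929, counting in the Lie algebra of `E₇` (helper18)

* `card_cube` : `2 ≠ 0`: at most `27 q^124 + 27 q^123 + q^106` elements with `M ^ 3 = a M`;
* `card_sq` : every characteristic: at most `27 q^116 + q^106` elements with `M ^ 2 = a M + b`.
-/

set_option autoImplicit false
set_option maxRecDepth 100000

namespace Cfsg.Agent.R2.T2.N6K

open Cfsg Cfsg.Lie Matrix
open Cfsg.Agent.R2.T1 Cfsg.Agent.R2.PX Cfsg.Agent.R2.T1.Mu
open Cfsg.Agent.H943.E7V.Block (D1 rho)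

universe u

section
variable {F : Type u} [Field F]

theorem sup_sub {P : Finset (Fin 126)} {z w : chevE7.Idx → F} (h : ∀ i ∉ P.image ix, z i = w i) : Sup P (z - w) := by
  intro i hi
  rw [Pi.sub_apply, h i hi, sub_self]

theorem mv_top {r : ℕ} (hr : (mv r 238).isNone = true) : mv r 238 = none := Option.isNone_iff_eq_none.1 hr

/-! ### the three injections -/

/-- the lowering coordinates vanish -/
theorem inj0 {z w : chevE7.Idx → F} (hz : ∀ a : D1, nn a ∈ L1 → (del F z *ᵥ bs F topv) a = 0)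
    (hw : ∀ a : D1, nn a ∈ L1 → (del F w *ᵥ bs F topv) a = 0) (h : ∀ i ∉ Pt.image ix, z i = w i) : z = w := by
  have key : ∀ z : chevE7.Idx → F, (∀ a : D1, nn a ∈ L1 → (del F z *ᵥ bs F topv) a = 0) → ∀ r ∈ Pt, z (ix r) = 0 := by
    intro z hz r hr
    rw [mem_Pt] at hr
    rcases mv_spec r.2 topv with h1 | ⟨a, c, h1, hc, -, -⟩
    · rw [nn_top] at h1; rw [h1] at hr; exact absurd hr (by simp)
    · rw [nn_top] at h1
      have h2 := hz a (low_mem r.2 h1)
      rw [low_coord z r.2 h1] at h2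
      exact (mul_eq_zero.1 h2).resolve_right (cast_ne hc)
  funext i
  by_cases hi : i ∈ Pt.image ix
  · obtain ⟨r, hr, rfl⟩ := Finset.mem_image.1 hi
    rw [key z hz r hr, key w hw r hr]
  · exact h i hi

/-- the quadratic equation -/
theorem inj_sq {a b : F} {z w : chevE7.Idx → F} (hz : del F z * del F z = a • del F z + b • 1)
    (hw : del F w * del F w = a • del F w + b • 1) {g : D1} (hg : (del F z *ᵥ bs F topv) g ≠ 0)
    (h : ∀ i ∉ (Pz (nn g)).image ix, z i = w i) : z = w := by
  have hd := sup_sub h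
  have e1 : del F (z - w) *ᵥ bs F topv = 0 := kill_top hd fun r hr => mv_top (mem_Pz.1 hr).1
  have e2 : del F z *ᵥ bs F topv = del F w *ᵥ bs F topv := by
    rw [map_sub, Matrix.sub_mulVec, sub_eq_zero] at e1
    exact e1
  have e3 : ∀ z : chevE7.Idx → F, del F z * del F z = a • del F z + b • 1 → del F z *ᵥ (del F z *ᵥ bs F topv) =
      a • (del F z *ᵥ bs F topv) + b • bs F topv := by
    intro z hz
    rw [Matrix.mulVec_mulVec, hz, Matrix.add_mulVec, Matrix.smul_mulVec, Matrix.smul_mulVec, Matrix.one_mulVec]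
  have e4 : del F (z - w) *ᵥ (del F z *ᵥ bs F topv) = 0 := by
    rw [map_sub, Matrix.sub_mulVec, e3 z hz]
    rw [e2, e3 w hw, sub_self]
  have h5 := tri hd (b := g) (fun r hr => (mem_Pz.1 hr).2) (fun r hr a' c h6 => by rw [e4]; rfl) hg
  exact sub_eq_zero.1 h5

/-- the cubic equation, second layer not zero -/
theorem inj_cube {a : F} {z w : chevE7.Idx → F} (hz : del F z * del F z * del F z = a • del F z)
    (hw : del F w * del F w * del F w = a • del F w) {g : D1} (hg : nn g ∈ L2)
    (h0 : (del F z *ᵥ (del F z *ᵥ bs F topv)) g ≠ 0)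
    (h : ∀ i ∉ (Pu (nn g)).image ix, z i = w i)
    (hs : (del F z *ᵥ (del F z *ᵥ bs F topv)) topv = (del F w *ᵥ (del F w *ᵥ bs F topv)) topv) : z = w := by
  have hd := sup_sub h
  have hr0 : ∀ r ∈ Pu (nn g), mv r.val 238 = none := fun r hr => up_none r.2 (mem_Pu.1 hr).1
  have e1 : del F (z - w) *ᵥ bs F topv = 0 := kill_top hd hr0
  have e2 : del F z *ᵥ bs F topv = del F w *ᵥ bs F topv := by
    rw [map_sub, Matrix.sub_mulVec, sub_eq_zero] at e1
    exact e1
  have e3 : del F (z - w) *ᵥ (del F z *ᵥ bs F topv) = 0 := by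
    funext x
    by_cases hx : x = topv
    · subst hx
      rw [map_sub, Matrix.sub_mulVec, Pi.sub_apply, hs]
      rw [e2, sub_self]
      rfl
    · rw [del_sum hd.inl, Pi.zero_apply]
      refine Finset.sum_eq_zero fun s _ => ?_
      by_cases hds : (z - w) (Sum.inr s) = 0
      · rw [hds, zero_mul]
      · have hP := hd.inr hds
        rw [NM_zero, mul_zero]
        intro b c hb
        by_cases hbt : b = topv
        · subst hbt
          rw [nn_top, hr0 _ hP] at hb
          exact absurd hb (by simp)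
        · refine del_top z hbt fun hL => hx (nn_inj ?_)
          exact up_top s.2 (mem_Pu.1 hP).1 hL hb
  have e4 : del F z *ᵥ (del F z *ᵥ bs F topv) = del F w *ᵥ (del F w *ᵥ bs F topv) := by
    rw [map_sub, Matrix.sub_mulVec, sub_eq_zero] at e3
    rw [e3, e2]
  have e5 : ∀ z : chevE7.Idx → F, del F z * del F z * del F z = a • del F z →
      del F z *ᵥ (del F z *ᵥ (del F z *ᵥ bs F topv)) = a • (del F z *ᵥ bs F topv) := by
    intro z hz
    rw [Matrix.mulVec_mulVec, Matrix.mulVec_mulVec, hz, Matrix.smul_mulVec]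
  have e6 : del F (z - w) *ᵥ (del F z *ᵥ (del F z *ᵥ bs F topv)) = 0 := by
    rw [map_sub, Matrix.sub_mulVec, e5 z hz, e4, e5 w hw, e2, sub_self]
  have h5 := tri hd (b := g) (fun r hr => (mem_Pu.1 hr).2) (fun r hr a' c h6 => by rw [e6]; rfl) h0
  exact sub_eq_zero.1 h5

/-- second layer zero, first layer not zero -/
theorem inj_two (h2 : (2 : F) ≠ 0) {z w : chevE7.Idx → F}
    (hz : ∀ a : D1, nn a ∈ L2 → (del F z *ᵥ (del F z *ᵥ bs F topv)) a = 0)
    (hw : ∀ a : D1, nn a ∈ L2 → (del F w *ᵥ (del F w *ᵥ bs F topv)) a = 0) {g : D1} (hg : nn g ∈ L1)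
    (h0 : (del F z *ᵥ bs F topv) g ≠ 0)
    (h : ∀ i ∉ (Pl (nn g)).image ix, z i = w i) : z = w := by
  have hd := sup_sub h
  have hP : ∀ r ∈ Pl (nn g), (mv r.val 238).isSome = true := fun r hr => (mem_Pl.1 hr).1
  -- the coordinate of `g`
  have e1 : (del F (z - w) *ᵥ bs F topv) g = 0 := by
    rw [del_sum hd.inl]
    refine Finset.sum_eq_zero fun s _ => ?_
    by_cases hds : (z - w) (Sum.inr s) = 0
    · rw [hds, zero_mul]
    · have hP' := mem_Pl.1 (hd.inr hds)
      rw [NM_zero, mul_zero]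
      intro b c hb
      refine bs_ne fun hbt => ?_
      rcases mv_spec s.2 b with h3 | ⟨a', c', h3, -, h4, -⟩
      · rw [h3] at hb; exact absurd hb (by simp)
      · rw [hb, Option.some.injEq, Prod.mk.injEq] at h3
        rw [← h3.1] at h4
        have h5 : (mv s.val (nn g)).isSome = true := hP'.2
        rw [h4] at h5
        exact absurd h5 (by simp)
  have e2 : (del F z *ᵥ bs F topv) g = (del F w *ᵥ bs F topv) g := by
    rw [map_sub, Matrix.sub_mulVec, Pi.sub_apply, sub_eq_zero] at e1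
    exact e1
  have e3 : ∀ x : D1, nn x ∈ L2 → (del F (z - w) *ᵥ (del F z *ᵥ bs F topv + del F w *ᵥ bs F topv)) x = 0 := by
    intro x hx
    have c1 := comm2 hd hP z hx
    have c2 : (del F z *ᵥ (del F (z - w) *ᵥ bs F topv)) x + (del F (z - w) *ᵥ (del F w *ᵥ bs F topv)) x = 0 := by
      have c3 : del F z *ᵥ (del F (z - w) *ᵥ bs F topv) + del F (z - w) *ᵥ (del F w *ᵥ bs F topv) =
          del F z *ᵥ (del F z *ᵥ bs F topv) - del F w *ᵥ (del F w *ᵥ bs F topv) := by
        rw [map_sub]
        simp only [Matrix.sub_mulVec, Matrix.mulVec_sub]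
        abel
      have c4 := congrFun c3 x
      rw [Pi.add_apply, Pi.sub_apply, hz x hx, hw x hx, sub_zero] at c4
      exact c4
    rw [c1] at c2
    rw [Matrix.mulVec_add, Pi.add_apply]
    exact c2
  have h5 := tri hd (b := g) (fun r hr => (mem_Pl.1 hr).2) (fun r hr a' c h6 => e3 a' (low_L2 r.2 (hP r hr) hg h6))
    (by
      rw [Pi.add_apply, ← e2, ← two_mul]
      exact mul_ne_zero h2 h0)
  exact sub_eq_zero.1 h5

end

/-! ### counting -/

/-- weights of a layer -/
def WL (L : List ℕ) : Finset D1 := Finset.univ.filter fun b => nn b ∈ L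

theorem mem_WL {L : List ℕ} {b : D1} : b ∈ WL L ↔ nn b ∈ L := by simp [WL]

theorem card_WL (L : List ℕ) : (WL L).card ≤ L.length := by
  refine le_trans (Finset.card_le_card_of_injOn (t := L.toFinset) nn (fun b hb => ?_) ?_) (List.toFinset_card_le L)
  · exact List.mem_toFinset.2 (mem_WL.1 hb)
  · intro a _ b _ h
    exact nn_inj h

theorem card_idx : Fintype.card chevE7.Idx = 133 := by
  rw [Fintype.card_sum, Fintype.card_fin, Fintype.card_fin]
  rfl

theorem card_im (P : Finset (Fin 126)) : (P.image ix).card = P.card := Finset.card_image_of_injective _ ix_inj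

section
variable {F : Type u} [Field F] [Finite F]

/-- **the cubic equation** -/
theorem card_cube (h2 : (2 : F) ≠ 0) (a : F) :
    Nat.card {z : chevE7.Idx → F // del F z * del F z * del F z = a • del F z} ≤
      27 * Nat.card F ^ 124 + 27 * Nat.card F ^ 123 + Nat.card F ^ 106 := by
  classical
  have : Fintype F := Fintype.ofFinite F
  rw [Nat.card_eq_fintype_card (α := F), Nat.card_eq_fintype_card, Fintype.card_subtype]
  set q := Fintype.card F with hq
  set T : Finset (chevE7.Idx → F) := Finset.univ.filter fun z => del F z * del F z * del F z = a • del F z with hT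
  let A : D1 → Finset (chevE7.Idx → F) := fun g => T.filter fun z => (del F z *ᵥ (del F z *ᵥ bs F topv)) g ≠ 0
  let B : D1 → Finset (chevE7.Idx → F) := fun g => Finset.univ.filter fun z =>
    (∀ x : D1, nn x ∈ L2 → (del F z *ᵥ (del F z *ᵥ bs F topv)) x = 0) ∧ (del F z *ᵥ bs F topv) g ≠ 0
  let C : Finset (chevE7.Idx → F) := Finset.univ.filter fun z => ∀ x : D1, nn x ∈ L1 → (del F z *ᵥ bs F topv) x = 0
  have hsub : T ⊆ ((WL L2).biUnion A ∪ (WL L1).biUnion B) ∪ C := by
    intro z hz
    rw [Finset.mem_union, Finset.mem_union, Finset.mem_biUnion, Finset.mem_biUnion]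
    by_cases h1 : ∀ x : D1, nn x ∈ L2 → (del F z *ᵥ (del F z *ᵥ bs F topv)) x = 0
    · by_cases h3 : ∀ x : D1, nn x ∈ L1 → (del F z *ᵥ bs F topv) x = 0
      · exact Or.inr (Finset.mem_filter.2 ⟨Finset.mem_univ _, h3⟩)
      · push Not at h3
        obtain ⟨x, hx, hx'⟩ := h3
        exact Or.inl (Or.inr ⟨x, mem_WL.2 hx, Finset.mem_filter.2 ⟨Finset.mem_univ _, h1, hx'⟩⟩)
    · push Not at h1
      obtain ⟨x, hx, hx'⟩ := h1
      exact Or.inl (Or.inl ⟨x, mem_WL.2 hx, Finset.mem_filter.2 ⟨hz, hx'⟩⟩)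
  have hA : ∀ g ∈ WL L2, (A g).card ≤ q ^ 124 := by
    intro g hg
    rw [mem_WL] at hg
    have h3 := elim' (A g) ((Pu (nn g)).image ix) (fun z => (del F z *ᵥ (del F z *ᵥ bs F topv)) topv)
      (fun z hz w hw h4 h5 => by
        have hz' := Finset.mem_filter.1 hz
        have hw' := Finset.mem_filter.1 hw
        exact inj_cube (Finset.mem_filter.1 hz'.1).2 (Finset.mem_filter.1 hw'.1).2 hg hz'.2 h4 h5)
    rw [card_im, card_Pu _ hg, card_idx, ← pow_succ] at h3
    exact h3
  have hB : ∀ g ∈ WL L1, (B g).card ≤ q ^ 123 := by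
    intro g hg
    rw [mem_WL] at hg
    have h3 := elim (B g) ((Pl (nn g)).image ix)
      (fun z hz w hw h4 => by
        have hz' := (Finset.mem_filter.1 hz).2
        have hw' := (Finset.mem_filter.1 hw).2
        exact inj_two h2 hz'.1 hw'.1 hg hz'.2 h4)
    rw [card_im, card_Pl _ hg, card_idx] at h3
    exact h3
  have hC : C.card ≤ q ^ 106 := by
    have h3 := elim C (Pt.image ix)
      (fun z hz w hw h4 => inj0 (Finset.mem_filter.1 hz).2 (Finset.mem_filter.1 hw).2 h4)
    rw [card_im, card_Pt, card_idx] at h3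
    exact h3
  have c2 : (WL L2).card ≤ 27 := card_WL L2
  have c1 : (WL L1).card ≤ 27 := card_WL L1
  calc T.card ≤ (((WL L2).biUnion A ∪ (WL L1).biUnion B) ∪ C).card := Finset.card_le_card hsub
    _ ≤ ((WL L2).biUnion A ∪ (WL L1).biUnion B).card + C.card := Finset.card_union_le _ _
    _ ≤ ((WL L2).biUnion A).card + ((WL L1).biUnion B).card + C.card :=
        Nat.add_le_add_right (Finset.card_union_le _ _) _
    _ ≤ (WL L2).card * q ^ 124 + (WL L1).card * q ^ 123 + q ^ 106 :=
        Nat.add_le_add (Nat.add_le_add (Finset.card_biUnion_le_card_mul _ _ _ hA)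
          (Finset.card_biUnion_le_card_mul _ _ _ hB)) hC
    _ ≤ 27 * q ^ 124 + 27 * q ^ 123 + q ^ 106 :=
        Nat.add_le_add_right (Nat.add_le_add (Nat.mul_le_mul_right _ c2) (Nat.mul_le_mul_right _ c1)) _

/-- **the quadratic equation** -/
theorem card_sq (a b : F) :
    Nat.card {z : chevE7.Idx → F // del F z * del F z = a • del F z + b • (1 : Matrix D1 D1 F)} ≤
      27 * Nat.card F ^ 116 + Nat.card F ^ 106 := by
  classical
  have : Fintype F := Fintype.ofFinite F
  rw [Nat.card_eq_fintype_card (α := F), Nat.card_eq_fintype_card, Fintype.card_subtype]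
  set q := Fintype.card F with hq
  set T : Finset (chevE7.Idx → F) := Finset.univ.filter fun z => del F z * del F z = a • del F z + b • (1 : Matrix D1 D1 F)
    with hT
  let A : D1 → Finset (chevE7.Idx → F) := fun g => T.filter fun z => (del F z *ᵥ bs F topv) g ≠ 0
  let C : Finset (chevE7.Idx → F) := Finset.univ.filter fun z => ∀ x : D1, nn x ∈ L1 → (del F z *ᵥ bs F topv) x = 0
  have hsub : T ⊆ (WL L1).biUnion A ∪ C := by
    intro z hz
    rw [Finset.mem_union, Finset.mem_biUnion]
    by_cases h3 : ∀ x : D1, nn x ∈ L1 → (del F z *ᵥ bs F topv) x = 0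
    · exact Or.inr (Finset.mem_filter.2 ⟨Finset.mem_univ _, h3⟩)
    · push Not at h3
      obtain ⟨x, hx, hx'⟩ := h3
      exact Or.inl ⟨x, mem_WL.2 hx, Finset.mem_filter.2 ⟨hz, hx'⟩⟩
  have hA : ∀ g ∈ WL L1, (A g).card ≤ q ^ 116 := by
    intro g hg
    rw [mem_WL] at hg
    have h3 := elim (A g) ((Pz (nn g)).image ix)
      (fun z hz w hw h4 => by
        have hz' := Finset.mem_filter.1 hz
        have hw' := Finset.mem_filter.1 hw
        exact inj_sq (Finset.mem_filter.1 hz'.1).2 (Finset.mem_filter.1 hw'.1).2 hz'.2 h4)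
    rw [card_im, card_Pz _ hg, card_idx] at h3
    exact h3
  have hC : C.card ≤ q ^ 106 := by
    have h3 := elim C (Pt.image ix)
      (fun z hz w hw h4 => inj0 (Finset.mem_filter.1 hz).2 (Finset.mem_filter.1 hw).2 h4)
    rw [card_im, card_Pt, card_idx] at h3
    exact h3
  have c1 : (WL L1).card ≤ 27 := card_WL L1
  calc T.card ≤ ((WL L1).biUnion A ∪ C).card := Finset.card_le_card hsub
    _ ≤ ((WL L1).biUnion A).card + C.card := Finset.card_union_le _ _
    _ ≤ (WL L1).card * q ^ 116 + q ^ 106 := Nat.add_le_add (Finset.card_biUnion_le_card_mul _ _ _ hA) hC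
    _ ≤ 27 * q ^ 116 + q ^ 106 := Nat.add_le_add_right (Nat.mul_le_mul_right _ c1) _

end

end Cfsg.Agent.R2.T2.N6K
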