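import Cfsg.Agent.R2.T1.Mu.Equ

/-!
# S5929, counting in the Lie algebra of `E₇` (helper18): tables

`M z := del F z`, `e` the highest weight vector (index 238). A root `r` with `mv r 238 ≠ none` is *lowering*; `L1` : the
weights `238 + r`, `L2` : the 27 weights of the next layer.

* `Pu s`, `Pl s`, `Pz s` : raising roots / lowering roots / roots killing `e` which move the weight `s`;
* `orth_all`, `pc_comm` : the checks.
-/

set_option autoImplicit false
set_option maxRecDepth 100000

namespace Cfsg.Agent.R2.T2.N6K

open Cfsg Cfsg.Lie Matrix
open Cfsg.Agent.R2.T1 Cfsg.Agent.R2.PX Cfsg.Agent.R2.T1.Mu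
open Cfsg.Agent.ChevalleyStructure.Elts Cfsg.Agent.ChevalleyStructure.RootVec
  Cfsg.Agent.ChevalleyStructure.RootVecTab
open Cfsg.Agent.H943.E7V.Block (D1 rho)

universe u

/-! ### tables -/

/-- first layer -/
def L1 : List ℕ := [161, 183, 193, 199, 202, 203, 209, 212, 213, 216, 217, 218, 221, 222, 223, 224, 225, 228, 229, 230,
  231, 232, 233, 234, 235, 236, 237]

/-- second layer -/
def L2 : List ℕ := [122, 125, 129, 134, 140, 146, 151, 155, 158, 160, 168, 173, 177, 180, 182, 187, 190, 192, 196, 198,
  201, 206, 208, 211, 215, 220, 227]

/-- lowering roots moving `s` -/
def Pl (s : ℕ) : Finset (Fin 126) := Finset.univ.filter fun r => ((mv r.val 238).isSome && (mv r.val s).isSome) = true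

/-- raising roots moving `s` -/
def Pu (s : ℕ) : Finset (Fin 126) := Finset.univ.filter fun r => ((mv (125 - r.val) 238).isSome && (mv r.val s).isSome) = true

/-- roots killing the highest weight vector, moving `s` -/
def Pz (s : ℕ) : Finset (Fin 126) := Finset.univ.filter fun r => ((mv r.val 238).isNone && (mv r.val s).isSome) = true

/-- lowering roots -/
def Pt : Finset (Fin 126) := Finset.univ.filter fun r => (mv r.val 238).isSome = true

theorem mem_Pl {s : ℕ} {r : Fin 126} : r ∈ Pl s ↔ (mv r.val 238).isSome = true ∧ (mv r.val s).isSome = true := by
  simp [Pl]

theorem mem_Pu {s : ℕ} {r : Fin 126} : r ∈ Pu s ↔ (mv (125 - r.val) 238).isSome = true ∧ (mv r.val s).isSome = true := by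
  simp [Pu]

theorem mem_Pz {s : ℕ} {r : Fin 126} : r ∈ Pz s ↔ (mv r.val 238).isNone = true ∧ (mv r.val s).isSome = true := by
  simp [Pz]

theorem mem_Pt {r : Fin 126} : r ∈ Pt ↔ (mv r.val 238).isSome = true := by
  simp [Pt]

theorem card_Pt : Pt.card = 27 := by decide +kernel
theorem card_Pl : ∀ s ∈ L1, (Pl s).card = 10 := by decide +kernel
theorem card_Pu : ∀ s ∈ L2, (Pu s).card = 10 := by decide +kernel
theorem card_Pz : ∀ s ∈ L1, (Pz s).card = 17 := by decide +kernel

/-- a weight is the top, the bottom, or in one of the layers -/
theorem layers_tab : ((List.range 240).all fun s => !(decide (rt chevE8 s 7 = 1)) || Nat.beq s 238 || Nat.beq s 120 ||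
    L1.contains s || L2.contains s) = true := by decide +kernel

/-- the targets of the lowering roots at the top -/
theorem low_tab : ((List.range 126).all fun r => match mv r 238 with
    | none => true
    | some (a, _) => L1.contains a) = true := by decide +kernel

/-- every weight of the first layer is a target -/
theorem low_surj : (L1.all fun s => (List.range 126).any fun r => match mv r 238 with
    | none => false
    | some (a, _) => Nat.beq a s) = true := by decide +kernel

/-- raising roots on the first layer -/
theorem up_tab : ((List.range 126).all fun r => (mv (125 - r) 238).isNone || ((mv r 238).isNone && L1.all fun s =>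
    match mv r s with
    | none => true
    | some (a, _) => Nat.beq a 238)) = true := by decide +kernel

/-- raising roots: targets from the second layer are in the first layer -/
theorem up_tab2 : ((List.range 126).all fun r => (mv (125 - r) 238).isNone || (L2.all fun s =>
    match mv r s with
    | none => true
    | some (a, _) => L1.contains a)) = true := by decide +kernel

/-- lowering roots: targets from the first layer are in the second layer -/
theorem low_tab2 : ((List.range 126).all fun r => (mv r 238).isNone || (L1.all fun s =>
    match mv r s with
    | none => true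
    | some (a, _) => L2.contains a)) = true := by decide +kernel

/-- two roots moving the same weight -/
theorem orth_all : ((List.range 240).all fun s => !(decide (rt chevE8 s 7 = 1)) ||
    (List.range 126).all fun r => match mv r s with
      | none => true
      | some (a, _) => (List.range 126).all fun r' => Nat.beq r r' || (mv r' s).isNone || (mv (125 - r') a).isNone) = true := by
  decide +kernel

/-- the image of the top under two roots, if it is in the second layer -/
def pc (s r : ℕ) : Option (ℕ × ℤ) :=
  match mv r 238 with
  | none => none
  | some (b, c) => match mv s b with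
    | none => none
    | some (a, c') => bif L2.contains a then some (a, c' * c) else none

theorem pc_comm : ((List.range 126).all fun r => (mv r 238).isNone || (List.range 126).all fun s =>
    decide (pc s r = pc r s)) = true := by
  decide +kernel

end Cfsg.Agent.R2.T2.N6K
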