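import Cfsg.Agent.R2.T2.N6K.Tab

/-!
# S5929, counting in the Lie algebra of `E₇` (helper18): the elimination lemmas

* `tri` : if `d` is supported on roots moving the weight `b`, `t b ≠ 0` and `del d *ᵥ t` vanishes at their targets, then
  `d = 0`;
* `elim`, `elim'` : counting by forgetting coordinates;
* `del_top` : support of `del z *ᵥ e`;
* `comm2` : `del z *ᵥ (del d *ᵥ e) = del d *ᵥ (del z *ᵥ e)` on the second layer for `d` supported on lowering roots.
-/

set_option autoImplicit false
set_option maxRecDepth 100000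

namespace Cfsg.Agent.R2.T2.N6K

open Cfsg Cfsg.Lie Matrix
open Cfsg.Agent.R2.T1 Cfsg.Agent.R2.PX Cfsg.Agent.R2.T1.Mu
open Cfsg.Agent.ChevalleyStructure.Elts Cfsg.Agent.ChevalleyStructure.RootVec
  Cfsg.Agent.ChevalleyStructure.RootVecTab
open Cfsg.Agent.H943.E7V.Block (D1 rho)

universe u

/-! ### consequences of the tables -/

theorem layers (b : D1) : b = topv ∨ nn b = 120 ∨ nn b ∈ L1 ∨ nn b ∈ L2 := by
  have h := List.all_eq_true.1 layers_tab (nn b) (List.mem_range.2 (nn_lt b))
  simp only [Bool.or_eq_true, Bool.not_eq_true', decide_eq_false_iff_not, List.contains_iff_mem] at h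
  rcases h with (((h | h) | h) | h) | h
  · exact absurd (rt_nn b) h
  · exact Or.inl (nn_inj (Nat.eq_of_beq_eq_true h))
  · exact Or.inr (Or.inl (Nat.eq_of_beq_eq_true h))
  · exact Or.inr (Or.inr (Or.inl h))
  · exact Or.inr (Or.inr (Or.inr h))

theorem low_mem {r a : ℕ} {c : ℤ} (hr : r < 126) (h : mv r 238 = some (a, c)) : a ∈ L1 := by
  have h1 := List.all_eq_true.1 low_tab r (List.mem_range.2 hr)
  rw [h] at h1
  simpa using h1

theorem exists_low {s : ℕ} (hs : s ∈ L1) : ∃ r < 126, ∃ c : ℤ, mv r 238 = some (s, c) := by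
  have h1 := List.all_eq_true.1 low_surj s hs
  rw [List.any_eq_true] at h1
  obtain ⟨r, hr, h2⟩ := h1
  rcases h3 : mv r 238 with _ | ⟨a, c⟩
  · rw [h3] at h2; exact absurd h2 (by simp)
  · rw [h3] at h2
    dsimp only at h2
    exact ⟨r, List.mem_range.1 hr, c, by rw [h3, Nat.eq_of_beq_eq_true h2]⟩

theorem up_none {r : ℕ} (hr : r < 126) (h : (mv (125 - r) 238).isSome = true) : mv r 238 = none := by
  have h1 := List.all_eq_true.1 up_tab r (List.mem_range.2 hr)
  rw [Bool.or_eq_true, Bool.and_eq_true] at h1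
  rcases h1 with h1 | h1
  · rw [Option.isNone_iff_eq_none.1 h1] at h; exact absurd h (by simp)
  · exact Option.isNone_iff_eq_none.1 h1.1

theorem up_top {r : ℕ} (hr : r < 126) (h : (mv (125 - r) 238).isSome = true) {s a : ℕ} {c : ℤ} (hs : s ∈ L1)
    (hm : mv r s = some (a, c)) : a = 238 := by
  have h1 := List.all_eq_true.1 up_tab r (List.mem_range.2 hr)
  rw [Bool.or_eq_true, Bool.and_eq_true] at h1
  rcases h1 with h1 | h1
  · rw [Option.isNone_iff_eq_none.1 h1] at h; exact absurd h (by simp)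
  · have h2 := List.all_eq_true.1 h1.2 s hs
    rw [hm] at h2
    exact Nat.eq_of_beq_eq_true h2

theorem up_L1 {r : ℕ} (hr : r < 126) (h : (mv (125 - r) 238).isSome = true) {s a : ℕ} {c : ℤ} (hs : s ∈ L2)
    (hm : mv r s = some (a, c)) : a ∈ L1 := by
  have h1 := List.all_eq_true.1 up_tab2 r (List.mem_range.2 hr)
  rw [Bool.or_eq_true] at h1
  rcases h1 with h1 | h1
  · rw [Option.isNone_iff_eq_none.1 h1] at h; exact absurd h (by simp)
  · have h2 := List.all_eq_true.1 h1 s hs
    rw [hm] at h2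
    simpa using h2

theorem low_L2 {r : ℕ} (hr : r < 126) (h : (mv r 238).isSome = true) {s a : ℕ} {c : ℤ} (hs : s ∈ L1)
    (hm : mv r s = some (a, c)) : a ∈ L2 := by
  have h1 := List.all_eq_true.1 low_tab2 r (List.mem_range.2 hr)
  rw [Bool.or_eq_true] at h1
  rcases h1 with h1 | h1
  · rw [Option.isNone_iff_eq_none.1 h1] at h; exact absurd h (by simp)
  · have h2 := List.all_eq_true.1 h1 s hs
    rw [hm] at h2
    simpa using h2

theorem orth {r r' : ℕ} (hr : r < 126) (hr' : r' < 126) (hne : r ≠ r') {b : D1} {a : ℕ} {c : ℤ}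
    (h : mv r (nn b) = some (a, c)) (h' : (mv r' (nn b)).isSome = true) : mv (125 - r') a = none := by
  have h1 := List.all_eq_true.1 orth_all (nn b) (List.mem_range.2 (nn_lt b))
  rw [Bool.or_eq_true, Bool.not_eq_true', decide_eq_false_iff_not] at h1
  rcases h1 with h1 | h1
  · exact absurd (rt_nn b) h1
  have h2 := List.all_eq_true.1 h1 r (List.mem_range.2 hr)
  rw [h] at h2
  have h3 := List.all_eq_true.1 h2 r' (List.mem_range.2 hr')
  rw [Bool.or_eq_true, Bool.or_eq_true] at h3
  rcases h3 with (h3 | h3) | h3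
  · exact absurd (Nat.eq_of_beq_eq_true h3) hne
  · rw [Option.isNone_iff_eq_none.1 h3] at h'; exact absurd h' (by simp)
  · exact Option.isNone_iff_eq_none.1 h3

/-! ### the triangular lemma -/

/-- the index of a root -/
def ix (r : Fin 126) : chevE7.Idx := Sum.inr ⟨r.val, r.2⟩

theorem ix_inj : Function.Injective ix := by
  intro r s h
  have h1 := Sum.inr_injective h
  exact Fin.ext (congrArg Fin.val h1)

section
variable {F : Type u} [Field F]

theorem del_sum {d : chevE7.Idx → F} (h0 : ∀ i, d (Sum.inl i) = 0) (t : D1 → F) (a : D1) :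
    (del F d *ᵥ t) a = ∑ s : Fin chevE7.nroots, d (Sum.inr s) * (NM F s *ᵥ t) a := by
  rw [del_apply]
  simp only [h0, zero_smul, Finset.sum_const_zero, zero_add]
  rw [Matrix.sum_mulVec, Finset.sum_apply]
  refine Finset.sum_congr rfl fun s _ => ?_
  rw [Matrix.smul_mulVec, Pi.smul_apply, smul_eq_mul]

/-- `d` is supported on the roots of `P` -/
def Sup (P : Finset (Fin 126)) (d : chevE7.Idx → F) : Prop := ∀ i, i ∉ P.image ix → d i = 0

theorem Sup.inl {P : Finset (Fin 126)} {d : chevE7.Idx → F} (h : Sup P d) (i : Fin chevE7.rank) : d (Sum.inl i) = 0 := by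
  apply h
  intro hi
  obtain ⟨r, -, hr⟩ := Finset.mem_image.1 hi
  exact absurd hr (by simp [ix])

theorem Sup.inr {P : Finset (Fin 126)} {d : chevE7.Idx → F} (h : Sup P d) {s : Fin chevE7.nroots} (hs : d (Sum.inr s) ≠ 0) :
    (⟨s.val, s.2⟩ : Fin 126) ∈ P := by
  by_contra hn
  apply hs
  apply h
  intro hi
  obtain ⟨r, hr, hr'⟩ := Finset.mem_image.1 hi
  have : r = (⟨s.val, s.2⟩ : Fin 126) := by
    have h1 := Sum.inr_injective hr'
    exact Fin.ext (congrArg Fin.val h1)
  rw [this] at hr
  exact hn hr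

theorem NM_zero {r : ℕ} {t : D1 → F} {a : D1} (h : ∀ (b : D1) (c : ℤ), mv r (nn b) = some (nn a, c) → t b = 0) :
    (NM F r *ᵥ t) a = 0 := by
  by_contra hne
  obtain ⟨b, c, h1, h2⟩ := NM_mulVec_ne hne
  exact h2 (h b c h1)

/-- **elimination lemma** -/
theorem tri {b : D1} {d : chevE7.Idx → F} {t : D1 → F} {P : Finset (Fin 126)} (hd : Sup P d)
    (hm : ∀ r ∈ P, (mv r.val (nn b)).isSome = true)
    (h0 : ∀ r ∈ P, ∀ (a : D1) (c : ℤ), mv r.val (nn b) = some (nn a, c) → (del F d *ᵥ t) a = 0)
    (ht : t b ≠ 0) : d = 0 := by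
  have key : ∀ r : Fin chevE7.nroots, d (Sum.inr r) = 0 := by
    intro r
    by_contra hr
    have hr' : r.val < 126 := r.2
    have hP := hd.inr hr
    have h1 := hm _ hP
    rcases mv_spec hr' b with h2 | ⟨a, c, h2, hc, -, -⟩
    · have h3 : mv r.val (nn b) = none := h2
      have h4 : (mv r.val (nn b)).isSome = true := h1
      rw [h3] at h4; exact absurd h4 (by simp)
    have h3 := h0 _ hP a c h2
    rw [del_sum hd.inl, Finset.sum_eq_single r] at h3
    · rw [NM_mulVec hr' h2, mul_eq_zero, mul_eq_zero] at h3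
      rcases h3 with h3 | h3 | h3
      · exact hr h3
      · exact cast_ne hc h3
      · exact ht h3
    · intro s _ hs
      by_cases hd' : d (Sum.inr s) = 0
      · rw [hd', zero_mul]
      · have hs' : s.val < 126 := s.2
        rw [NM_zero, mul_zero]
        intro b' c' h4
        exfalso
        rcases mv_spec hs' b' with h5 | ⟨a', c'', h5, -, -, h6⟩
        · rw [h5] at h4; exact absurd h4 (by simp)
        · rw [h4, Option.some.injEq, Prod.mk.injEq] at h5
          have h7 := orth hr' hs' (fun h => hs (Fin.ext h.symm)) h2 (hm _ (hd.inr hd'))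
          rw [h5.1, h6] at h7
          exact absurd h7 (by simp)
    · intro h; exact absurd (Finset.mem_univ _) h
  funext i
  rcases i with i | s
  · exact hd.inl i
  · exact key s

/-! ### the highest weight vector -/

theorem top_entry (z : chevE7.Idx → F) (a : D1) : (del F z *ᵥ bs F topv) a = del F z a topv := by
  rw [bs, Matrix.mulVec_single_one, Matrix.col_apply]

/-- the image of the highest weight vector -/
theorem del_top (z : chevE7.Idx → F) {a : D1} (ha : a ≠ topv) (h : nn a ∉ L1) : (del F z *ᵥ bs F topv) a = 0 := by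
  rw [del_apply, Matrix.add_mulVec, Matrix.sum_mulVec, Matrix.sum_mulVec, Pi.add_apply, Finset.sum_apply,
    Finset.sum_apply, Finset.sum_eq_zero, Finset.sum_eq_zero, add_zero]
  · intro s _
    rw [Matrix.smul_mulVec, Pi.smul_apply, NM_zero, smul_zero]
    intro b c hb
    by_cases h1 : b = topv
    · subst h1
      exact absurd (low_mem s.2 hb) h
    · exact bs_ne h1
  · intro i _
    rw [Matrix.smul_mulVec, Pi.smul_apply, Hi_mulVec, bs_ne ha, mul_zero, smul_zero]

/-- the coordinates of the first layer -/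
theorem low_coord (z : chevE7.Idx → F) {r : ℕ} (hr : r < 126) {a : D1} {c : ℤ} (h : mv r 238 = some (nn a, c)) :
    (del F z *ᵥ bs F topv) a = z (Sum.inr ⟨r, hr⟩) * (c : F) := by
  rw [top_entry]
  exact del_entry z hr (b := topv) h

/-- roots killing the highest weight vector -/
theorem kill_top {P : Finset (Fin 126)} {d : chevE7.Idx → F} (hd : Sup P d) (hP : ∀ r ∈ P, mv r.val 238 = none) :
    del F d *ᵥ bs F topv = 0 := by
  funext a
  rw [del_sum hd.inl, Pi.zero_apply]
  refine Finset.sum_eq_zero fun s _ => ?_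
  by_cases h : d (Sum.inr s) = 0
  · rw [h, zero_mul]
  · have h1 := hP _ (hd.inr h)
    have h2 : NM F s *ᵥ bs F topv = 0 := NM_bs_none (b := topv) h1
    rw [h2, Pi.zero_apply, mul_zero]

theorem pc_spec {r s : ℕ} (hr : r < 126) (hs : s < 126) {a : D1} (ha : nn a ∈ L2) :
    (NM F s *ᵥ (NM F r *ᵥ bs F topv)) a = match pc s r with
      | none => 0
      | some (x, c) => if nn a = x then ((c : ℤ) : F) else 0 := by
  unfold pc
  rcases mv_spec hr topv with h | ⟨b, c, h, -, -, -⟩
  · rw [NM_bs_none h]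
    rw [nn_top] at h
    rw [h, Matrix.mulVec_zero]
    rfl
  · rw [NM_bs_some h, Matrix.mulVec_smul]
    rw [nn_top] at h
    rw [h]
    dsimp only
    rcases mv_spec hs b with h' | ⟨b', c', h', -, -, -⟩
    · rw [NM_bs_none h', h', smul_zero]
      rfl
    · rw [NM_bs_some h', h', Pi.smul_apply, Pi.smul_apply, bs_apply]
      dsimp only
      by_cases h2 : nn b' ∈ L2
      · rw [show L2.contains (nn b') = true by simpa using h2, cond_true]
        dsimp only
        split_ifs with h3
        · rw [smul_eq_mul, smul_eq_mul, mul_one]; push_cast; ring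
        · rw [smul_zero, smul_zero]
      · rw [show L2.contains (nn b') = false by simpa using h2, cond_false]
        dsimp only
        rw [if_neg, smul_zero, smul_zero]
        intro h3
        rw [← h3] at h2
        exact h2 ha

theorem pc_eq {r s : ℕ} (hr : r < 126) (h : (mv r 238).isSome = true) (hs : s < 126) : pc s r = pc r s := by
  have h1 := List.all_eq_true.1 pc_comm r (List.mem_range.2 hr)
  rw [Bool.or_eq_true] at h1
  rcases h1 with h1 | h1
  · rw [Option.isNone_iff_eq_none.1 h1] at h; exact absurd h (by simp)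
  · have h2 := List.all_eq_true.1 h1 s (List.mem_range.2 hs)
    exact of_decide_eq_true h2

/-- commutation on the second layer -/
theorem comm1 {r : ℕ} (hr : r < 126) (h : (mv r 238).isSome = true) (z : chevE7.Idx → F) {a : D1} (ha : nn a ∈ L2) :
    (del F z *ᵥ (NM F r *ᵥ bs F topv)) a = (NM F r *ᵥ (del F z *ᵥ bs F topv)) a := by
  have hat : a ≠ topv := by
    rintro rfl
    rw [nn_top] at ha
    exact absurd ha (by decide)
  have hz : ∀ i : Fin chevE7.rank, (Hi F i *ᵥ (NM F r *ᵥ bs F topv)) a = 0 := by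
    intro i
    rw [Hi_mulVec]
    rcases mv_spec hr topv with h' | ⟨b, c, h', -, -, -⟩
    · rw [NM_bs_none h', Pi.zero_apply, mul_zero]
    · rw [NM_bs_some h', Pi.smul_apply, bs_ne, smul_zero, mul_zero]
      rintro rfl
      rw [nn_top] at h'
      have := low_mem hr h'
      exact absurd ha ((by decide : ∀ x ∈ L1, x ∉ L2) _ this)
  have hz' : ∀ i : Fin chevE7.rank, (NM F r *ᵥ (Hi F i *ᵥ bs F topv)) a = 0 := by
    intro i
    rw [Hi, diag_bs, Matrix.mulVec_smul, Pi.smul_apply]
    rcases mv_spec hr topv with h' | ⟨b, c, h', -, -, -⟩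
    · rw [NM_bs_none h', Pi.zero_apply, smul_zero]
    · rw [NM_bs_some h', Pi.smul_apply, bs_ne, smul_zero, smul_zero]
      rintro rfl
      rw [nn_top] at h'
      have := low_mem hr h'
      exact absurd ha ((by decide : ∀ x ∈ L1, x ∉ L2) _ this)
  rw [del_apply, Matrix.add_mulVec, Matrix.add_mulVec, Matrix.mulVec_add, Matrix.sum_mulVec, Matrix.sum_mulVec,
    Matrix.sum_mulVec, Matrix.sum_mulVec, Matrix.mulVec_sum, Matrix.mulVec_sum, Pi.add_apply, Pi.add_apply,
    Finset.sum_apply, Finset.sum_apply, Finset.sum_apply, Finset.sum_apply]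
  congr 1
  · refine Finset.sum_congr rfl fun i _ => ?_
    rw [Matrix.smul_mulVec, Matrix.smul_mulVec, Matrix.mulVec_smul, Pi.smul_apply, Pi.smul_apply, hz, hz']
  · refine Finset.sum_congr rfl fun s _ => ?_
    have hs : s.val < 126 := s.2
    rw [Matrix.smul_mulVec, Matrix.smul_mulVec, Matrix.mulVec_smul, Pi.smul_apply, Pi.smul_apply, pc_spec hr hs ha,
      pc_spec hs hr ha, pc_eq hr h hs]

/-- commutation on the second layer -/
theorem comm2 {P : Finset (Fin 126)} {d : chevE7.Idx → F} (hd : Sup P d) (hP : ∀ r ∈ P, (mv r.val 238).isSome = true)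
    (z : chevE7.Idx → F) {a : D1} (ha : nn a ∈ L2) :
    (del F z *ᵥ (del F d *ᵥ bs F topv)) a = (del F d *ᵥ (del F z *ᵥ bs F topv)) a := by
  have e : del F d = ∑ s : Fin chevE7.nroots, d (Sum.inr s) • NM F s := by
    rw [del_apply]
    simp only [hd.inl, zero_smul, Finset.sum_const_zero, zero_add]
  rw [e, Matrix.sum_mulVec, Matrix.sum_mulVec, Matrix.mulVec_sum, Finset.sum_apply, Finset.sum_apply]
  refine Finset.sum_congr rfl fun s _ => ?_
  have hs : s.val < 126 := s.2
  rw [Matrix.smul_mulVec, Matrix.smul_mulVec, Matrix.mulVec_smul, Pi.smul_apply, Pi.smul_apply]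
  by_cases h : d (Sum.inr s) = 0
  · rw [h, zero_smul, zero_smul]
  · rw [comm1 hs (hP _ (hd.inr h)) z ha]

end

/-! ### counting -/

section
variable {ι : Type*} [Fintype ι] [DecidableEq ι] {F : Type*} [Fintype F]

/-- **counting by forgetting coordinates** -/
theorem elim (S : Finset (ι → F)) (P : Finset ι)
    (h : ∀ z ∈ S, ∀ w ∈ S, (∀ i ∉ P, z i = w i) → z = w) :
    S.card ≤ Fintype.card F ^ (Fintype.card ι - P.card) := by
  classical
  have h1 : S.card ≤ (Finset.univ : Finset ({i // i ∈ Pᶜ} → F)).card := by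
    refine Finset.card_le_card_of_injOn (fun z i => z i.1) (fun _ _ => Finset.mem_coe.2 (Finset.mem_univ _)) ?_
    intro z hz w hw hzw
    refine h z hz w hw fun i hi => ?_
    exact congrFun hzw ⟨i, Finset.mem_compl.2 hi⟩
  rwa [Finset.card_univ, Fintype.card_fun, Fintype.card_coe, Finset.card_compl] at h1

/-- the same with one additional coordinate -/
theorem elim' (S : Finset (ι → F)) (P : Finset ι) (s : (ι → F) → F)
    (h : ∀ z ∈ S, ∀ w ∈ S, (∀ i ∉ P, z i = w i) → s z = s w → z = w) :
    S.card ≤ Fintype.card F ^ (Fintype.card ι - P.card) * Fintype.card F := by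
  classical
  have h1 : S.card ≤ (Finset.univ : Finset (({i // i ∈ Pᶜ} → F) × F)).card := by
    refine Finset.card_le_card_of_injOn (fun z => (fun i => z i.1, s z)) (fun _ _ => Finset.mem_coe.2 (Finset.mem_univ _)) ?_
    intro z hz w hw hzw
    rw [Prod.mk.injEq] at hzw
    refine h z hz w hw (fun i hi => ?_) hzw.2
    exact congrFun hzw.1 ⟨i, Finset.mem_compl.2 hi⟩
  rwa [Finset.card_univ, Fintype.card_prod, Fintype.card_fun, Fintype.card_coe, Finset.card_compl] at h1

end

end Cfsg.Agent.R2.T2.N6K
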